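import Groth.Agent.FerrandPush.Flat
import Groth.Agent.FlatCx.Ext
/-!
Rings glued along an ideal: the ideal, its powers, and the blow-up property.
-/

set_option autoImplicit false
set_option linter.style.haveILetI false

universe u

namespace Groth.Agent.BlowPushLib

section Powers

variable {R A : Type u} [CommRing R] [CommRing A] [Algebra R A]

/-- Quotients by powers of a regular element are flat when the first one is. -/
theorem flat_quot_pow {f : A} (hf : f ∈ nonZeroDivisors A) [Module.Flat R (A ⧸ Ideal.span {f})] :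
    ∀ n : ℕ, Module.Flat R (A ⧸ Ideal.span {f ^ (n + 1)}) := by
  intro n
  induction n with
  | zero => rw [pow_one]; infer_instance
  | succ k ih =>
    haveI := ih
    have hle : Ideal.span {f ^ (k + 1 + 1)} ≤ Ideal.span {f ^ (k + 1)} :=
      Ideal.span_singleton_le_span_singleton.2 (pow_dvd_pow f (Nat.le_succ _))
    let π := (Ideal.Quotient.factorₐ R hle).toLinearMap
    have hπ : Function.Surjective π := Ideal.Quotient.factor_surjective hle
    let m₀ : A →ₗ[R] A ⧸ Ideal.span {f ^ (k + 1 + 1)} :=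
      (Ideal.Quotient.mkₐ R _).toLinearMap.comp (LinearMap.mulLeft R (f ^ (k + 1)))
    have hm₀ : ∀ a, m₀ a = 0 ↔ a ∈ Ideal.span {f} := fun a => by
      change Ideal.Quotient.mk _ (f ^ (k + 1) * a) = 0 ↔ _
      rw [Ideal.Quotient.eq_zero_iff_mem, Ideal.mem_span_singleton, Ideal.mem_span_singleton, pow_succ]
      refine ⟨fun ⟨c, hc⟩ => ⟨c, ?_⟩, fun ⟨c, hc⟩ => ⟨c, by rw [hc, mul_assoc]⟩⟩
      rw [mul_assoc, mul_cancel_left_mem_nonZeroDivisors (pow_mem hf _)] at hc
      exact hc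
    have hk : LinearMap.ker π = LinearMap.range m₀ := by
      ext z
      obtain ⟨a, rfl⟩ := Ideal.Quotient.mk_surjective z
      rw [LinearMap.mem_ker, LinearMap.mem_range]
      change Ideal.Quotient.mk _ a = 0 ↔ _
      rw [Ideal.Quotient.eq_zero_iff_mem, Ideal.mem_span_singleton]
      refine ⟨fun ⟨c, hc⟩ => ⟨c, by rw [hc]; rfl⟩, fun ⟨c, hc⟩ => ?_⟩
      have h1 := Ideal.mem_span_singleton.1 (Ideal.Quotient.eq.1 (hc : Ideal.Quotient.mk _ (f ^ (k + 1) * c) = _))
      have h2 : f ^ (k + 1) ∣ f ^ (k + 1) * c - a := (pow_dvd_pow f (Nat.le_succ _)).trans h1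
      simpa using dvd_sub (dvd_mul_right (f ^ (k + 1)) c) h2
    haveI : Module.Flat R (LinearMap.ker π) := by
      rw [hk]
      have e : (A ⧸ LinearMap.ker m₀) ≃ₗ[R] (A ⧸ Ideal.span {f}) :=
        (Submodule.quotEquivOfEq _ ((Ideal.span {f}).restrictScalars R) (by ext a; simp [hm₀])).trans
          (Submodule.Quotient.restrictScalarsEquiv R (Ideal.span {f}))
      exact Module.Flat.of_linearEquiv (m₀.quotKerEquivRange.symm.trans e)
    haveI : Module.Flat R ((A ⧸ Ideal.span {f ^ (k + 1 + 1)}) ⧸ LinearMap.ker π) :=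
      Module.Flat.of_linearEquiv (π.quotKerEquivOfSurjective hπ)
    exact FlatCx.flat_of_extension (LinearMap.ker π)

end Powers

variable {A A₁ B D : Type u} [CommRing A] [CommRing A₁] [CommRing B] [CommRing D]

/-- A ring glued from a surjection and a ring map. -/
structure Glued (β : A →+* A₁) (γ : A →+* B) (π : A₁ →+* D) (κ : B →+* D) : Prop where
  surjγ : Function.Surjective γ
  surjπ : Function.Surjective π
  w : ∀ a, π (β a) = κ (γ a)
  inj : ∀ a, γ a = 0 → β a = 0 → a = 0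
  lift : ∀ y, π y = 0 → ∃ a, β a = y ∧ γ a = 0

variable {β : A →+* A₁} {γ : A →+* B} {π : A₁ →+* D} {κ : B →+* D} (h : Glued β γ π κ)

include h

theorem Glued.mem (a : A) (ha : a ∈ RingHom.ker γ) : β a ∈ RingHom.ker π := by
  rw [RingHom.mem_ker, h.w, ha, map_zero]

theorem Glued.map_ker : (RingHom.ker γ).map β = RingHom.ker π := by
  refine le_antisymm (Ideal.map_le_iff_le_comap.2 fun a ha => h.mem a ha) fun y hy => ?_
  obtain ⟨a, rfl, ha⟩ := h.lift y hy
  exact Ideal.mem_map_of_mem β ha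

theorem Glued.mul_mem (x : A₁) (a : A) (ha : a ∈ RingHom.ker γ) : ∃ c ∈ RingHom.ker γ, β c = x * β a := by
  obtain ⟨c, hc, hc'⟩ := h.lift (x * β a) (Ideal.mul_mem_left _ x (h.mem a ha))
  exact ⟨c, hc', hc⟩

theorem Glued.lift_pow : ∀ (n : ℕ) (y : A₁), y ∈ RingHom.ker π ^ (n + 1) → ∃ a ∈ RingHom.ker γ ^ (n + 1), β a = y := by
  intro n
  induction n with
  | zero =>
    intro y hy
    rw [pow_one] at hy ⊢
    obtain ⟨a, ha, ha'⟩ := h.lift y hy
    exact ⟨a, ha', ha⟩
  | succ k ih =>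
    intro y hy
    rw [pow_succ] at hy
    induction hy using Submodule.mul_induction_on' with
    | mem_mul_mem p hp q hq =>
      obtain ⟨a, ha, rfl⟩ := ih p hp
      obtain ⟨c, rfl, hc⟩ := h.lift q hq
      exact ⟨a * c, pow_succ (RingHom.ker γ) (k + 1) ▸ Ideal.mul_mem_mul ha hc, map_mul β a c⟩
    | add p _ q _ hp hq =>
      obtain ⟨a, ha, rfl⟩ := hp
      obtain ⟨c, hc, rfl⟩ := hq
      exact ⟨a + c, add_mem ha hc, map_add β a c⟩

theorem Glued.flat_quot {R : Type u} [CommRing R] [Algebra R A] [Algebra R A₁] [Algebra R B] [Algebra R D]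
    (hβ : ∀ r, β (algebraMap R A r) = algebraMap R A₁ r) (hγ : ∀ r, γ (algebraMap R A r) = algebraMap R B r)
    (hπ : ∀ r, π (algebraMap R A₁ r) = algebraMap R D r) [Module.Flat R B] [Module.Flat R D] (n : ℕ)
    [Module.Flat R (A₁ ⧸ RingHom.ker π ^ (n + 1))] : Module.Flat R (A ⧸ RingHom.ker γ ^ (n + 1)) := by
  have hJ : RingHom.ker γ ^ (n + 1) ≤ RingHom.ker γ := Ideal.pow_le_self (Nat.succ_ne_zero n)
  have hI : RingHom.ker π ^ (n + 1) ≤ RingHom.ker π := Ideal.pow_le_self (Nat.succ_ne_zero n)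
  have hmap : RingHom.ker γ ^ (n + 1) ≤ Ideal.comap β (RingHom.ker π ^ (n + 1)) := by
    rw [← Ideal.map_le_iff_le_comap, Ideal.map_pow, h.map_ker]
  let C : FerrandPush.Cart (A ⧸ RingHom.ker γ ^ (n + 1)) B (A₁ ⧸ RingHom.ker π ^ (n + 1)) D :=
    { fst := Ideal.Quotient.lift _ γ fun a ha => RingHom.mem_ker.1 (hJ ha)
      snd := Ideal.quotientMap _ β hmap
      p := Ideal.Quotient.lift _ π fun a ha => RingHom.mem_ker.1 (hI ha)
      q := κ
      surj := Ideal.Quotient.lift_surjective_of_surjective _ _ h.surjπ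
      w := fun c => by
        obtain ⟨a, rfl⟩ := Ideal.Quotient.mk_surjective c
        simp [h.w]
      ext' := fun x y e₁ e₂ => by
        obtain ⟨a, rfl⟩ := Ideal.Quotient.mk_surjective x
        obtain ⟨c, rfl⟩ := Ideal.Quotient.mk_surjective y
        simp only [Ideal.Quotient.lift_mk] at e₁
        simp only [Ideal.quotientMap_mk, Ideal.Quotient.eq] at e₂
        obtain ⟨d, hd, hd'⟩ := h.lift_pow n _ e₂
        have : a - c - d = 0 := h.inj _ (by rw [map_sub, map_sub, e₁, sub_self, hJ hd, sub_zero])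
          (by rw [map_sub, map_sub, hd', sub_self])
        rw [Ideal.Quotient.eq, sub_eq_zero.1 this]
        exact hd
      lift' := fun b z e => by
        obtain ⟨y, rfl⟩ := Ideal.Quotient.mk_surjective z
        obtain ⟨a₀, rfl⟩ := h.surjγ b
        simp only [Ideal.Quotient.lift_mk] at e
        obtain ⟨a₁, ha₁, ha₁'⟩ := h.lift (y - β a₀) (by rw [map_sub, h.w, e, sub_self])
        exact ⟨Ideal.Quotient.mk _ (a₀ + a₁), by simp [ha₁'], by simp [ha₁]⟩ }
  refine C.flat (R := R) ⟨fun r => ?_, fun r => ?_, fun r => ?_⟩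
  · change Ideal.Quotient.lift _ γ _ (Ideal.Quotient.mk _ (algebraMap R A r)) = _
    rw [Ideal.Quotient.lift_mk, hγ]
  · change Ideal.quotientMap _ β hmap (Ideal.Quotient.mk _ (algebraMap R A r)) = _
    rw [Ideal.quotientMap_mk, hβ]
    rfl
  · change Ideal.Quotient.lift _ π _ (Ideal.Quotient.mk _ (algebraMap R A₁ r)) = _
    rw [Ideal.Quotient.lift_mk, hπ]

/-- The blow-up property of the glued ring. -/
theorem Glued.existsUnique_lift {Q : Type u} [CommRing Q] (ψ : A →+* Q) {f : Q} (hf : f ∈ nonZeroDivisors Q)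
    (hJ : (RingHom.ker γ).map ψ = Ideal.span {f}) : ∃! χ : A₁ →+* Q, χ.comp β = ψ := by
  have cancel : ∀ u v : Q, (∀ a ∈ RingHom.ker γ, ψ a * u = ψ a * v) → u = v := fun u v e => by
    have hle : (RingHom.ker γ).map ψ ≤ LinearMap.ker (LinearMap.mulRight Q (u - v)) := by
      rw [Ideal.map_le_iff_le_comap]
      intro a ha
      change ψ a * (u - v) = 0
      rw [mul_sub, e a ha, sub_self]
    have h0 : f * (u - v) = 0 := hle (hJ ▸ Ideal.mem_span_singleton_self f)
    exact sub_eq_zero.1 ((mul_right_mem_nonZeroDivisors_eq_zero_iff hf).1 ((mul_comm _ _).trans h0))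
  choose jl hjl₁ hjl₂ using h.mul_mem
  have hψjl : ∀ (x : A₁) (a : A) (ha : a ∈ RingHom.ker γ) (a' : A) (ha' : a' ∈ RingHom.ker γ),
      ψ (jl x a ha) * ψ a' = ψ a * ψ (jl x a' ha') := fun x a ha a' ha' => by
    rw [← map_mul, ← map_mul]
    refine congrArg ψ (sub_eq_zero.1 (h.inj _ ?_ ?_))
    · simp only [RingHom.mem_ker] at ha ha'
      simp [map_sub, map_mul, ha, ha', RingHom.mem_ker.1 (hjl₁ x a ha)]
    · rw [map_sub, map_mul, map_mul, hjl₂, hjl₂]
      ring
  have hex : ∀ x : A₁, ∃ q : Q, ∀ a (ha : a ∈ RingHom.ker γ), ψ (jl x a ha) = ψ a * q := fun x => by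
    have hN : ∀ r ∈ (RingHom.ker γ).map ψ, ∃ N ∈ Ideal.span {f}, ∀ a (ha : a ∈ RingHom.ker γ),
        ψ (jl x a ha) * r = ψ a * N := fun r hr => by
      induction hr using Submodule.span_induction with
      | mem r hr =>
        obtain ⟨a', ha', rfl⟩ := hr
        exact ⟨ψ (jl x a' ha'), hJ ▸ Ideal.mem_map_of_mem ψ (hjl₁ x a' ha'), fun a ha => hψjl x a ha a' ha'⟩
      | zero => exact ⟨0, zero_mem _, fun a ha => by rw [mul_zero, mul_zero]⟩
      | add r s _ _ hr hs =>
        obtain ⟨N, hN, eN⟩ := hr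
        obtain ⟨M, hM, eM⟩ := hs
        exact ⟨N + M, add_mem hN hM, fun a ha => by rw [mul_add, mul_add, eN a ha, eM a ha]⟩
      | smul c r _ hr =>
        obtain ⟨N, hN, eN⟩ := hr
        exact ⟨c * N, Ideal.mul_mem_left _ c hN, fun a ha => by rw [smul_eq_mul, mul_left_comm, eN a ha, mul_left_comm]⟩
    obtain ⟨N, hN, eN⟩ := hN f (hJ ▸ Ideal.mem_span_singleton_self f)
    obtain ⟨q, rfl⟩ := Ideal.mem_span_singleton.1 hN
    exact ⟨q, fun a ha => (mul_cancel_right_mem_nonZeroDivisors hf).1 (by rw [eN a ha]; ring)⟩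
  choose χ hχ using hex
  have hchar : ∀ (x : A₁) (q : Q), (∀ a (ha : a ∈ RingHom.ker γ), ψ (jl x a ha) = ψ a * q) → χ x = q :=
    fun x q e => cancel _ _ fun a ha => (hχ x a ha).symm.trans (e a ha)
  have hjl : ∀ (x : A₁) (a : A) (ha : a ∈ RingHom.ker γ) (c : A), c ∈ RingHom.ker γ → β c = x * β a → jl x a ha = c :=
    fun x a ha c hc e => sub_eq_zero.1 (h.inj _ (by rw [map_sub, hjl₁ x a ha, hc, sub_zero])
      (by rw [map_sub, hjl₂, e, sub_self]))
  let χ' : A₁ →+* Q :=
    { toFun := χ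
      map_one' := hchar _ _ fun a ha => by rw [hjl 1 a ha a ha (one_mul _).symm, mul_one]
      map_mul' := fun x y => hchar _ _ fun a ha => by
        rw [hjl (x * y) a ha (jl x (jl y a ha) (hjl₁ y a ha)) (hjl₁ _ _ _) (by rw [hjl₂, hjl₂, mul_assoc]), hχ, hχ]
        ring
      map_zero' := hchar _ _ fun a ha => by rw [hjl 0 a ha 0 (zero_mem _) (by rw [map_zero, zero_mul]), map_zero, mul_zero]
      map_add' := fun x y => hchar _ _ fun a ha => by
        rw [hjl (x + y) a ha (jl x a ha + jl y a ha) (add_mem (hjl₁ _ _ _) (hjl₁ _ _ _))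
          (by rw [map_add, hjl₂, hjl₂, add_mul]), map_add, hχ, hχ, mul_add] }
  refine ⟨χ', RingHom.ext fun c => hchar _ _ fun a ha => ?_, fun φ hφ => RingHom.ext fun x => (hchar _ _ fun a ha => ?_).symm⟩
  · rw [hjl (β c) a ha (c * a) (Ideal.mul_mem_left _ c ha) (map_mul β c a), map_mul, mul_comm]
  · rw [← hφ, RingHom.comp_apply, RingHom.comp_apply, hjl₂, map_mul, mul_comm]

end Groth.Agent.BlowPushLib
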