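import Groth.Agent.BlowPushLib.Alg
import Groth.Agent.RelDivLib.Scheme
import Groth.Agent.BlowCompLib.Compose
import Groth.Agent.IdealStalkLib.Comap
/-!
The blow-up of a pushout along a Cartier divisor recovers the glued scheme.
-/

set_option autoImplicit false
set_option backward.isDefEq.respectTransparency false
set_option backward.isDefEq.respectTransparency.types false
set_option linter.style.haveILetI false
set_option linter.unusedSectionVars false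

universe u

open CategoryTheory CategoryTheory.Limits AlgebraicGeometry TopologicalSpace Opposite

namespace Groth.Agent.BlowPushLib

variable {Xt Dt D X : Scheme.{u}} {ι : Dt ⟶ Xt} [IsClosedImmersion ι] {h : Dt ⟶ D} [IsAffineHom h]
  {b : Xt ⟶ X} [IsAffineHom b] {j : D ⟶ X} [IsClosedImmersion j] (hP : IsPushout ι h b j)

include hP in
theorem preimage_eq (U : X.Opens) : ι ⁻¹ᵁ (b ⁻¹ᵁ U) = h ⁻¹ᵁ (j ⁻¹ᵁ U) := by
  rw [← Scheme.Hom.comp_preimage, ← Scheme.Hom.comp_preimage, hP.w]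

include hP in
theorem glued (U : X.affineOpens) :
    Glued (b.app U.1).hom (j.app U.1).hom (ι.app (b ⁻¹ᵁ U.1)).hom
      (h.appLE (j ⁻¹ᵁ U.1) (ι ⁻¹ᵁ (b ⁻¹ᵁ U.1)) (preimage_eq hP U.1).le).hom := by
  have hw : b.app U.1 ≫ ι.app (b ⁻¹ᵁ U.1) = j.app U.1 ≫ h.appLE (j ⁻¹ᵁ U.1) (ι ⁻¹ᵁ (b ⁻¹ᵁ U.1))
      (preimage_eq hP U.1).le := by
    simp only [Scheme.Hom.app_eq_appLE, Scheme.Hom.appLE_comp_appLE]
    congr 1
    · exact hP.w
  obtain ⟨α, ρ, hρo, hρW, hρA, hρB⟩ := FerrandPush.exists_cart_of_affineOpen hP U.2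
  have hr : ρ.opensRange = U.1 := Opens.ext hρW
  have hU' : α.U = b ⁻¹ᵁ U.1 := Opens.ext (by
    rw [← α.hU.range_fromSpec, ← hρA.isoPullback_hom_snd, Scheme.Hom.comp_base, TopCat.coe_comp,
      Set.range_comp]
    erw [Set.range_eq_univ.2 (Scheme.Hom.surjective hρA.isoPullback.hom)]
    rw [Set.image_univ, IsOpenImmersion.range_pullbackSnd, hr])
  have hV' : α.V = j ⁻¹ᵁ U.1 := Opens.ext (by
    rw [← α.hV.range_fromSpec, ← hρB.isoPullback_hom_snd, Scheme.Hom.comp_base, TopCat.coe_comp,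
      Set.range_comp]
    erw [Set.range_eq_univ.2 (Scheme.Hom.surjective hρB.isoPullback.hom)]
    rw [Set.image_univ, IsOpenImmersion.range_pullbackSnd, hr])
  have hrange : Set.range ρ = Set.range U.2.fromSpec := by rw [hρW, U.2.range_fromSpec]
  let θ := IsOpenImmersion.lift U.2.fromSpec ρ hrange.le
  have hθ : θ ≫ U.2.fromSpec = ρ := IsOpenImmersion.lift_fac _ _ _
  haveI : IsIso θ := ⟨IsOpenImmersion.lift ρ U.2.fromSpec hrange.ge, by
    rw [← cancel_mono ρ, Category.assoc, IsOpenImmersion.lift_fac, hθ, Category.id_comp], by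
    rw [← cancel_mono U.2.fromSpec, Category.assoc, hθ, IsOpenImmersion.lift_fac, Category.id_comp]⟩
  obtain ⟨e, he⟩ := Spec.map_surjective θ
  haveI : IsIso (Spec.map e) := he ▸ inferInstance
  haveI : IsIso (Scheme.Spec.map e.op) := (inferInstanceAs (IsIso (Spec.map e)))
  haveI : IsIso e.op := isIso_of_fully_faithful Scheme.Spec e.op
  haveI : IsIso e := isIso_of_op e
  have eb : b.appLE U.1 α.U hU'.le = e ≫ CommRingCat.ofHom α.cart.snd := by
    apply Spec.map_injective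
    rw [← cancel_mono U.2.fromSpec, IsAffineOpen.SpecMap_appLE_fromSpec b U.2 α.hU, Spec.map_comp, Category.assoc,
      he, hθ]
    exact hρA.w.symm
  have ej : j.appLE U.1 α.V hV'.le = e ≫ CommRingCat.ofHom α.cart.fst := by
    apply Spec.map_injective
    rw [← cancel_mono U.2.fromSpec, IsAffineOpen.SpecMap_appLE_fromSpec j U.2 α.hV, Spec.map_comp, Category.assoc,
      he, hθ]
    exact hρB.w.symm
  have hb : b.appLE U.1 α.U hU'.le = b.app U.1 ≫ Xt.presheaf.map (homOfLE hU'.le).op := by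
    rw [Scheme.Hom.app_eq_appLE, Scheme.Hom.appLE_map]
  have hj : j.appLE U.1 α.V hV'.le = j.app U.1 ≫ D.presheaf.map (homOfLE hV'.le).op := by
    rw [Scheme.Hom.app_eq_appLE, Scheme.Hom.appLE_map]
  haveI : IsIso (homOfLE hU'.le).op := ⟨(homOfLE hU'.ge).op, rfl, rfl⟩
  haveI : IsIso (homOfLE hV'.le).op := ⟨(homOfLE hV'.ge).op, rfl, rfl⟩
  have einj : Function.Bijective e.hom := ConcreteCategory.bijective_of_isIso e
  refine ⟨j.app_surjective U.1 U.2, ι.app_surjective _ (U.2.preimage b),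
    fun a => ConcreteCategory.congr_hom hw a, fun a hγ hβ => ?_, fun y hy => ?_⟩
  · apply einj.1
    rw [map_zero]
    refine α.cart.eq_zero _ ?_ ?_
    · have h1 := ConcreteCategory.congr_hom (ej.symm.trans hj) a
      simp only [CommRingCat.comp_apply] at h1
      rw [show α.cart.fst (e.hom a) = _ from h1, show (j.app U.1).hom a = 0 from hγ, map_zero]
    · have h1 := ConcreteCategory.congr_hom (eb.symm.trans hb) a
      simp only [CommRingCat.comp_apply] at h1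
      rw [show α.cart.snd (e.hom a) = _ from h1, show (b.app U.1).hom a = 0 from hβ, map_zero]
  · let y' : Γ(Xt, α.U) := Xt.presheaf.map (homOfLE hU'.le).op y
    have hy' : α.pMap y' = 0 := by
      have h2 : Xt.presheaf.map (homOfLE hU'.le).op ≫ α.pMap =
          ι.app (b ⁻¹ᵁ U.1) ≫ Dt.presheaf.map (homOfLE (ι.preimage_mono hU'.le)).op := by
        rw [Scheme.Hom.app_eq_appLE, FerrandPush.Chart.pMap, Scheme.Hom.map_appLE, Scheme.Hom.appLE_map]
      have h3 := ConcreteCategory.congr_hom h2 y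
      simp only [CommRingCat.comp_apply] at h3
      rw [h3, show (ι.app (b ⁻¹ᵁ U.1)).hom y = 0 from hy, map_zero]
    obtain ⟨c, hc₁, hc₂⟩ := α.cart.lift' 0 y' (by rw [map_zero]; exact hy'.symm)
    obtain ⟨a, rfl⟩ := einj.2 c
    refine ⟨a, ?_, ?_⟩
    · apply (ConcreteCategory.bijective_of_isIso (Xt.presheaf.map (homOfLE hU'.le).op)).1
      have h1 := ConcreteCategory.congr_hom (eb.symm.trans hb) a
      simp only [CommRingCat.comp_apply] at h1
      exact h1.symm.trans hc₂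
    · apply (ConcreteCategory.bijective_of_isIso (D.presheaf.map (homOfLE hV'.le).op)).1
      have h1 := ConcreteCategory.congr_hom (ej.symm.trans hj) a
      simp only [CommRingCat.comp_apply] at h1
      rw [map_zero]
      exact h1.symm.trans hc₁

theorem exists_affine_le {Z : Scheme.{u}} {W : Z.Opens} {z : Z} (hz : z ∈ W) :
    ∃ U : Z.affineOpens, z ∈ U.1 ∧ U.1 ≤ W := by
  obtain ⟨U, hU, hzU, hle⟩ := exists_isAffineOpen_mem_and_subset (U := W) hz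
  exact ⟨⟨U, hU⟩, hzU, hle⟩

theorem ideal_ker_eq {Z W : Scheme.{u}} (f : Z ⟶ W) [QuasiCompact f] (U : W.affineOpens) :
    f.ker.ideal U = RingHom.ker (f.app U.1).hom := Scheme.Hom.ker_apply f U

include hP in
theorem comap_ker : j.ker.comap b = ι.ker := by
  refine Scheme.IdealSheafData.ext_of_iSup_eq_top
    (fun U : X.affineOpens => (⟨b ⁻¹ᵁ U.1, U.2.preimage b⟩ : Xt.affineOpens))
    (top_le_iff.1 fun x _ => ?_) fun U => ?_
  · obtain ⟨U, hU, -⟩ := exists_affine_le (show b x ∈ (⊤ : X.Opens) from trivial)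
    exact Opens.mem_iSup.2 ⟨U, hU⟩
  · rw [IdealStalkLib.comap_ideal _ b U.2 (U.2.preimage b) le_rfl, ← Scheme.Hom.app_eq_appLE, ideal_ker_eq,
      ideal_ker_eq, (glued hP U).map_ker]

theorem exists_good_chart {Y Z : Scheme.{u}} (g : Y ⟶ Z) (I : Y.IdealSheafData) (hI : BlowUp.IsEffCartierIdeal I)
    (y : Y) : ∃ (U : Z.affineOpens) (V : Y.affineOpens) (_ : V.1 ≤ g ⁻¹ᵁ U.1), y ∈ V.1 ∧
      ∃ f, f ∈ nonZeroDivisors Γ(Y, V.1) ∧ I.ideal V = Ideal.span {f} := by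
  obtain ⟨V, hyV, f, hf, hIf⟩ := hI y
  obtain ⟨U, hU, -⟩ := exists_affine_le (show g y ∈ (⊤ : Z.Opens) from trivial)
  obtain ⟨t, htle, hyt⟩ := V.2.exists_basicOpen_le (V := V.1 ⊓ g ⁻¹ᵁ U.1) ⟨y, hyV, hU⟩ hyV
  obtain ⟨f', hf', hIf'⟩ := RelDivLib.generator_res I V t hf hIf
  exact ⟨U, Y.affineBasicOpen (U := V) t, htle.trans inf_le_right, hyt, f', hf', hIf'⟩

include hP in
theorem existsUnique_good {Y : Scheme.{u}} (g : Y ⟶ X) (U : X.affineOpens) (V : Y.affineOpens)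
    (e : V.1 ≤ g ⁻¹ᵁ U.1) {f : Γ(Y, V.1)} (hf : f ∈ nonZeroDivisors Γ(Y, V.1))
    (hI : (j.ker.comap g).ideal V = Ideal.span {f}) :
    ∃! m : Spec Γ(Y, V.1) ⟶ Xt, m ≫ b = V.2.fromSpec ≫ g := by
  rw [IdealStalkLib.comap_ideal _ g U.2 V.2 e, ideal_ker_eq] at hI
  obtain ⟨χ, hχ, hu⟩ := (glued hP U).existsUnique_lift (g.appLE U.1 V.1 e).hom hf hI
  have hbase : Spec.map (b.app U.1) ≫ U.2.fromSpec = (U.2.preimage b).fromSpec ≫ b := by
    rw [Scheme.Hom.app_eq_appLE]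
    exact IsAffineOpen.SpecMap_appLE_fromSpec b U.2 (U.2.preimage b) le_rfl
  have hg : Spec.map (g.appLE U.1 V.1 e) ≫ U.2.fromSpec = V.2.fromSpec ≫ g :=
    IsAffineOpen.SpecMap_appLE_fromSpec g U.2 V.2 e
  refine ⟨Spec.map (CommRingCat.ofHom χ) ≫ (U.2.preimage b).fromSpec, ?_, fun m hm => ?_⟩
  · beta_reduce
    rw [Category.assoc, ← hbase, ← Category.assoc, ← Spec.map_comp, ← hg]
    exact congrArg (fun k => Spec.map k ≫ U.2.fromSpec) (CommRingCat.hom_ext hχ)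
  · have hr : Set.range m ⊆ Set.range (U.2.preimage b).fromSpec := by
      rw [(U.2.preimage b).range_fromSpec]
      rintro _ ⟨s, rfl⟩
      show (m ≫ b) s ∈ U.1
      rw [hm, Scheme.Hom.comp_apply]
      exact e (show V.2.fromSpec s ∈ V.1 from V.2.range_fromSpec.le (Set.mem_range_self s))
    obtain ⟨k, hk⟩ := Spec.map_surjective (IsOpenImmersion.lift _ m hr)
    have hk' : Spec.map k ≫ (U.2.preimage b).fromSpec = m := by rw [hk, IsOpenImmersion.lift_fac]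
    rw [← hk', ← hu k.hom ?_]
    · rfl
    · refine congrArg CommRingCat.Hom.hom (Spec.map_injective (?_ : Spec.map (b.app U.1 ≫ k) = Spec.map (g.appLE U.1 V.1 e)))
      rw [← cancel_mono U.2.fromSpec, Spec.map_comp, Category.assoc, hbase, ← Category.assoc, hk', hm, hg]

include hP in
theorem lift_unique {Y : Scheme.{u}} (m₁ m₂ : Y ⟶ Xt) (hc : BlowUp.IsEffCartierIdeal (j.ker.comap (m₁ ≫ b)))
    (e : m₁ ≫ b = m₂ ≫ b) : m₁ = m₂ := by
  choose U V hle hyV f hf hI using exists_good_chart (m₁ ≫ b) _ hc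
  let 𝒰 : Y.OpenCover := Scheme.Cover.mkOfCovers Y (fun y => Spec Γ(Y, (V y).1)) (fun y => (V y).2.fromSpec)
    (fun y => ⟨y, by
      obtain ⟨s, hs⟩ : y ∈ Set.range (V y).2.fromSpec := by rw [(V y).2.range_fromSpec]; exact hyV y
      exact ⟨s, hs⟩⟩) (fun y => inferInstanceAs (IsOpenImmersion (V y).2.fromSpec))
  refine 𝒰.hom_ext m₁ m₂ fun y => ?_
  exact (existsUnique_good hP (m₁ ≫ b) (U y) (V y) (hle y) (hf y) (hI y)).unique
    (Category.assoc _ _ _) ((Category.assoc _ _ _).trans (congrArg ((V y).2.fromSpec ≫ ·) e.symm))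

include hP in
theorem exists_lift {Y : Scheme.{u}} (g : Y ⟶ X) (hc : BlowUp.IsEffCartierIdeal (j.ker.comap g)) :
    ∃ m : Y ⟶ Xt, m ≫ b = g := by
  choose U V hle hyV f hf hI using exists_good_chart g _ hc
  choose m hm using fun y => (existsUnique_good hP g (U y) (V y) (hle y) (hf y) (hI y)).exists
  let 𝒰 : Y.OpenCover := Scheme.Cover.mkOfCovers Y (fun y => Spec Γ(Y, (V y).1)) (fun y => (V y).2.fromSpec)
    (fun y => ⟨y, by
      obtain ⟨s, hs⟩ : y ∈ Set.range (V y).2.fromSpec := by rw [(V y).2.range_fromSpec]; exact hyV y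
      exact ⟨s, hs⟩⟩) (fun y => inferInstanceAs (IsOpenImmersion (V y).2.fromSpec))
  refine ⟨𝒰.glueMorphisms m fun y z => lift_unique hP _ _ ?_ ?_, 𝒰.hom_ext _ _ fun y => ?_⟩
  · rw [Category.assoc, hm, ← Category.assoc, Scheme.IdealSheafData.comap_comp]
    exact BlowCompLib.isEffCartier_comap_openImmersion hc _
  · rw [Category.assoc, Category.assoc, hm, hm, ← Category.assoc, ← Category.assoc]
    exact congrArg (· ≫ g) pullback.condition
  · rw [← Category.assoc, 𝒰.ι_glueMorphisms, hm]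
    rfl

include hP in
theorem isBlowUp (hι : BlowUp.IsEffCartierIdeal ι.ker) : BlowUp.IsBlowUp b j.ker := by
  refine ⟨by rw [comap_ker hP]; exact hι, fun Y g hc => ?_⟩
  obtain ⟨m, hm⟩ := exists_lift hP g hc
  exact ⟨m, hm, fun m' hm' => lift_unique hP m' m (by rw [hm']; exact hc) (hm'.trans hm.symm)⟩

theorem flat_pow_effCartier {S : Scheme.{u}} (q : Xt ⟶ S) [Flat (ι ≫ q)] (hι : BlowUp.IsEffCartierIdeal ι.ker)
    (n : ℕ) : Flat ((ι.ker ^ (n + 1)).subschemeι ≫ q) := by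
  haveI : Flat (ι.ker.subschemeι ≫ q) := by
    have e : ι.ker.subschemeι = inv ι.toImage ≫ ι := by
      rw [IsIso.eq_inv_comp]; exact ι.toImage_imageι
    rw [e, Category.assoc]
    infer_instance
  refine RelDivLib.flat_of_charts q _ fun x _ => ?_
  obtain ⟨W, V, e, hxV, f, hf, hI⟩ := exists_good_chart q _ hι x
  refine ⟨W, V, hxV, e, ?_⟩
  letI := (q.appLE W.1 V.1 e).hom.toAlgebra
  have h1 := RelDivLib.flat_quot_of_flat q ι.ker W.2 V e
  rw [hI] at h1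
  rw [Scheme.IdealSheafData.ideal_pow, Pi.pow_apply, hI, Ideal.span_singleton_pow]
  exact flat_quot_pow hf n

include hP in
theorem flat_pow {S : Scheme.{u}} (sX : X ⟶ S) [Flat (j ≫ sX)] [Flat (ι ≫ b ≫ sX)]
    (hι : BlowUp.IsEffCartierIdeal ι.ker) (n : ℕ) : Flat ((j.ker ^ (n + 1)).subschemeι ≫ sX) := by
  haveI := flat_pow_effCartier (b ≫ sX) hι n
  refine RelDivLib.flat_of_charts sX _ fun x _ => ?_
  obtain ⟨W, hW, -⟩ := exists_affine_le (show sX x ∈ (⊤ : S.Opens) from trivial)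
  obtain ⟨U, hU, e⟩ := exists_affine_le (W := sX ⁻¹ᵁ W.1) hW
  refine ⟨W, U, hU, e, ?_⟩
  have eXt : b ⁻¹ᵁ U.1 ≤ (b ≫ sX) ⁻¹ᵁ W.1 := fun z hz => e hz
  have eD : j ⁻¹ᵁ U.1 ≤ (j ≫ sX) ⁻¹ᵁ W.1 := fun z hz => e hz
  have eDt : ι ⁻¹ᵁ (b ⁻¹ᵁ U.1) ≤ (ι ≫ b ≫ sX) ⁻¹ᵁ W.1 := fun z hz => e hz
  have hpow := RelDivLib.flat_quot_of_flat (b ≫ sX) (ι.ker ^ (n + 1)) W.2 ⟨_, U.2.preimage b⟩ eXt
  rw [Scheme.IdealSheafData.ideal_pow, Pi.pow_apply, ideal_ker_eq] at hpow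
  rw [Scheme.IdealSheafData.ideal_pow, Pi.pow_apply, ideal_ker_eq]
  letI := (sX.appLE W.1 U.1 e).hom.toAlgebra
  letI := ((b ≫ sX).appLE W.1 (b ⁻¹ᵁ U.1) eXt).hom.toAlgebra
  letI := ((j ≫ sX).appLE W.1 (j ⁻¹ᵁ U.1) eD).hom.toAlgebra
  letI := ((ι ≫ b ≫ sX).appLE W.1 (ι ⁻¹ᵁ (b ⁻¹ᵁ U.1)) eDt).hom.toAlgebra
  haveI : Module.Flat Γ(S, W.1) Γ(D, j ⁻¹ᵁ U.1) := (j ≫ sX).flat_appLE W.2 (U.2.preimage j) eD
  haveI : Module.Flat Γ(S, W.1) Γ(Dt, ι ⁻¹ᵁ (b ⁻¹ᵁ U.1)) :=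
    (ι ≫ b ≫ sX).flat_appLE W.2 ((U.2.preimage b).preimage ι) eDt
  haveI := hpow
  refine (glued hP U).flat_quot (R := Γ(S, W.1)) (fun r => ?_) (fun r => ?_) (fun r => ?_) n
  · show (sX.appLE W.1 U.1 e ≫ b.app U.1).hom r = ((b ≫ sX).appLE W.1 (b ⁻¹ᵁ U.1) eXt).hom r
    rw [Scheme.Hom.app_eq_appLE, Scheme.Hom.appLE_comp_appLE]
  · show (sX.appLE W.1 U.1 e ≫ j.app U.1).hom r = ((j ≫ sX).appLE W.1 (j ⁻¹ᵁ U.1) eD).hom r
    rw [Scheme.Hom.app_eq_appLE, Scheme.Hom.appLE_comp_appLE]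
  · show ((b ≫ sX).appLE W.1 (b ⁻¹ᵁ U.1) eXt ≫ ι.app (b ⁻¹ᵁ U.1)).hom r = ((ι ≫ b ≫ sX).appLE W.1 _ eDt).hom r
    rw [Scheme.Hom.app_eq_appLE, Scheme.Hom.appLE_comp_appLE]

end Groth.Agent.BlowPushLib
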